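import Cfsg.Agent.ThreePrime72.Free
import Cfsg.Agent.Lib.Components.Basic

/-!
# Subgroups containing a large part of `A` and not lying in `M`
-/

set_option autoImplicit false
set_option linter.style.haveILetI false

namespace Cfsg.Agent.ThreePrime36

open Subgroup ThreePrime72

universe u

variable {G : Type u} [Group G] [Finite G]

/-! ### moved components -/

omit [Finite G] in
theorem mem_img {A X : Subgroup G} {b : ↥X ⧸ Cfsg.pPrimeCore 2 ↥X} :
    b ∈ img X A ↔ ∃ x : ↥X, (x : G) ∈ A ∧ quo X x = b := by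
  exact Iff.rfl

/-- An element of `X` fusing a nontrivial element of the image of `A ⊓ X` into that image lies
in `M`. -/
theorem key_mem {S : Sylow 2 G} {A M : Subgroup G} (hM : Big S A M) {X : Subgroup G}
    (hE : 4 ≤ Nat.card ↥(A ⊓ X)) (x : ↥X) {b : ↥X ⧸ Cfsg.pPrimeCore 2 ↥X} (hb : b ∈ img X A)
    (hb1 : b ≠ 1) (h : quo X x * b * (quo X x)⁻¹ ∈ img X A) : (x : G) ∈ M := by
  obtain ⟨e, he, rfl⟩ := mem_img.1 hb
  obtain ⟨f, hf, hfe⟩ := mem_img.1 h
  have hz : x * e * x⁻¹ * f⁻¹ ∈ Cfsg.pPrimeCore 2 ↥X := by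
    refine (QuotientGroup.eq_one_iff (N := Cfsg.pPrimeCore 2 ↥X) _).1 ?_
    show quo X (x * e * x⁻¹ * f⁻¹) = 1
    rw [map_mul, map_mul, map_mul, map_inv, map_inv, hfe, mul_inv_cancel]
  have hzM := mul_mem (hM.oddOf_le hE (mem_oddOf.2 hz)) (hM.nle (le_normalizer hf))
  have he1 : (e : G) ≠ 1 := fun h1 => hb1 (by rw [show e = 1 from Subtype.ext h1, map_one])
  refine hM.ctl.key (fun a ha => hM.toSetup.sq ha) hM.nle hM.cle he he1 ?_
  rwa [Subgroup.coe_mul, Subgroup.coe_inv, inv_mul_cancel_right] at hzM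

/-- A nontrivial element of the image of `A ⊓ X`. -/
theorem exists_ne_one {S : Sylow 2 G} {A M : Subgroup G} (hM : Big S A M) {X : Subgroup G}
    (hE : 4 ≤ Nat.card ↥(A ⊓ X)) : ∃ b ∈ img X A, b ≠ 1 := by
  have h : img X A ≠ ⊥ := fun h => by
    have := hM.toSetup.card_img X
    rw [h, card_bot] at this
    omega
  exact (bot_or_exists_ne_one (img X A)).resolve_left h

/-- The moved components generate with the normalizer of the image of `A ⊓ X`, and one of them,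
with preimage outside `M`, contains that whole image. -/
theorem exists_moved (hk : KSecStmt.{u}) (hG : ThreePrime72.Min G) {S : Sylow 2 G} {A M : Subgroup G}
    (hM : Big S A M) {X : Subgroup G} (hX : X ≠ ⊤) (hXM : ¬ X ≤ M)
    (hE : 4 ≤ Nat.card ↥(A ⊓ X)) (T : Sylow 2 ↥X)
    (hT : (T : Subgroup ↥X).map X.subtype ≤ normalizer (A : Set G))
    (hET : A ⊓ X ≤ (T : Subgroup ↥X).map X.subtype) :
    closure (SetLike.coe (normalizer (img X A : Set (↥X ⧸ Cfsg.pPrimeCore 2 ↥X))) ∪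
        ⋃ L ∈ {L : Subgroup (↥X ⧸ Cfsg.pPrimeCore 2 ↥X) | Moved (img X A) L}, (L : Set _)) = ⊤ ∧
    ∃ L : Subgroup (↥X ⧸ Cfsg.pPrimeCore 2 ↥X), ∃ n : ℕ, Moved (img X A) L ∧ img X A ≤ L ∧
      Odd n ∧ 3 ≤ n ∧ Nat.card ↥(img X A) = 2 ^ n ∧
      IsSzU (↥L ⧸ center ↥L)
        (((img X A).subgroupOf L).map (QuotientGroup.mk' (center ↥L))) ∧
      (∀ x ∈ img X A, x ≠ 1 → ∀ y ∈ img X A, y ≠ 1 →
        ∃ g ∈ L, g ∈ normalizer (img X A : Set _) ∧ g * x * g⁻¹ = y) ∧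
      (FreeOn (img X A) → center ↥L = ⊥) := by
  obtain ⟨-, hgen, -, hmoved⟩ := hk _ _ _ (hM.toSetup.kHyp hG hX T hT hET)
  refine ⟨hgen, ?_⟩
  obtain ⟨b0, hb0, hb01⟩ := exists_ne_one hM hE
  obtain ⟨L, hL, x0, hx0L, hx0M⟩ : ∃ L, Moved (img X A) L ∧ ∃ x : ↥X, quo X x ∈ L ∧ (x : G) ∉ M := by
    by_contra! hcon
    apply hXM
    have hle : (⊤ : Subgroup (↥X ⧸ Cfsg.pPrimeCore 2 ↥X)) ≤ (M.subgroupOf X).map (quo X) := by
      rw [← hgen, closure_le]
      rintro b (hb | hb)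
      · obtain ⟨x, rfl⟩ := QuotientGroup.mk'_surjective _ b
        exact ⟨x, key_mem hM hE x hb0 hb01 ((mem_normalizer_iff.1 hb b0).1 hb0), rfl⟩
      · simp only [Set.mem_iUnion] at hb
        obtain ⟨L, hL, hbL⟩ := hb
        obtain ⟨x, rfl⟩ := QuotientGroup.mk'_surjective _ b
        exact ⟨x, hcon L hL x hbL, rfl⟩
    intro g hg
    obtain ⟨m, hm, hme⟩ := hle (mem_top (quo X ⟨g, hg⟩))
    have hz : m⁻¹ * ⟨g, hg⟩ ∈ Cfsg.pPrimeCore 2 ↥X := QuotientGroup.eq.1 hme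
    simpa using mul_mem (show (m : G) ∈ M from hm) (hM.oddOf_le hE (mem_oddOf.2 hz))
  obtain ⟨U, n, hU, hn, hn3, hcard, -, hsup, hsz, htrans, hfree⟩ := hmoved L hL
  have hC : img X A ⊓ centralizer (L : Set (↥X ⧸ Cfsg.pPrimeCore 2 ↥X)) = ⊥ := by
    refine (Subgroup.eq_bot_iff_forall _).2 fun c hc => ?_
    by_contra hc1
    refine hx0M (key_mem hM hE x0 hc.1 hc1 ?_)
    rw [mem_centralizer_iff.1 hc.2 _ hx0L, mul_inv_cancel_right]
    exact hc.1
  have hUA : U = img X A := by rwa [hC, sup_bot_eq] at hsup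
  subst hUA
  exact ⟨L, n, hL, hU.trans inf_le_right, hn, hn3, hcard, hsz,
    fun x hx hx1 y hy hy1 => by
      obtain ⟨g, hg, hg1, -, hge⟩ := htrans x hx hx1 y hy hy1
      exact ⟨g, hg, hg1, hge⟩,
    fun h => (hfree h).1⟩

/-- Piece XMoved. -/
theorem xMoved (hk : KSecStmt.{u}) : XMovedStmt.{u} := by
  intro G _ _ hG S A M hM X hX hXM hE ⟨T, hT, hET⟩
  obtain ⟨-, L, n, -, -, hn, -, hcard, -, htr, -⟩ := exists_moved hk hG hM hX hXM hE T hT hET
  refine ⟨⟨n, hn, (hM.toSetup.card_img X).symm.trans hcard⟩, fun x hx hx1 y hy hy1 => ?_⟩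
  have hne : ∀ z : ↥X, (z : G) ∈ A → (z : G) ≠ 1 → quo X z ≠ 1 := fun z hz hz1 h => hz1 (by
    rw [hM.toSetup.quo_injOn hz (y := 1) (one_mem A) (by rw [h, map_one]), Subgroup.coe_one])
  obtain ⟨g, -, hgN, hge⟩ := htr (quo X ⟨x, hx.2⟩) (mem_img.2 ⟨_, hx.1, rfl⟩) (hne _ hx.1 hx1)
    (quo X ⟨y, hy.2⟩) (mem_img.2 ⟨_, hy.1, rfl⟩) (hne _ hy.1 hy1)
  obtain ⟨g', hg', rfl⟩ := hM.toSetup.exists_normalizer_lift hgN
  refine ⟨g', g'.2, hg', ?_⟩
  have h1 : g' * (⟨x, hx.2⟩ : ↥X) * g'⁻¹ = ⟨y, hy.2⟩ := hM.toSetup.quo_injOn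
    ((mem_normalizer_iff.1 hg' x).1 hx).1 hy.1 (by rw [map_mul, map_mul, map_inv, hge])
  exact congrArg Subtype.val h1

/-- Piece XData. -/
theorem xData (hk : KSecStmt.{u}) : XDataStmt.{u} := by
  intro G _ _ hG S A M hM X hAX hX hXM
  have hinf : A ⊓ X = A := inf_eq_left.2 hAX
  have hE : 4 ≤ Nat.card ↥(A ⊓ X) := by rw [hinf]; exact le_trans (by norm_num) hM.big
  obtain ⟨T, hAT, hT⟩ := hM.toSetup.exists_sylow hAX
  have hET : A ⊓ X ≤ (T : Subgroup ↥X).map X.subtype := inf_le_left.trans hAT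
  obtain ⟨hgen, L, n, hL, hUL, -, -, -, hsz, -, hfree⟩ := exists_moved hk hG hM hX hXM hE T hT hET
  have hZ : center ↥L = ⊥ := hfree (hM.toSetup.freeOn_img hAX)
  -- `L` is the only moved component
  have huniq : ∀ L' : Subgroup (↥X ⧸ Cfsg.pPrimeCore 2 ↥X), Moved (img X A) L' → L' = L := by
    intro L' hL'
    by_contra hne
    exact hL'.2 (hUL.trans (Components.component_le_centralizer hL.1 hL'.1 (Ne.symm hne)))
  have hNL : normalizer (img X A : Set _) ≤ normalizer (L : Set (↥X ⧸ Cfsg.pPrimeCore 2 ↥X)) := by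
    intro b hb
    refine Components.map_conj_eq_iff_mem_normalizer.1 ?_
    by_contra hne
    refine hL.2 (le_trans ?_ (Components.component_le_centralizer
      (Components.component_map_conj b hL.1) hL.1 hne))
    intro a ha
    refine ⟨b⁻¹ * a * b, hUL ((mem_normalizer_iff.1 hb _).2 (by simpa [mul_assoc] using ha)), ?_⟩
    simp [mul_assoc]
  haveI hLn : L.Normal := by
    rw [← normalizer_eq_top_iff, eq_top_iff, ← hgen, closure_le]
    rintro b (hb | hb)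
    · exact hNL hb
    · simp only [Set.mem_iUnion] at hb
      obtain ⟨L', hL', hbL⟩ := hb
      exact le_normalizer (huniq L' hL' ▸ hbL)
  have hdec : ∀ b : ↥X ⧸ Cfsg.pPrimeCore 2 ↥X, b ∈ L ⊔ normalizer (img X A : Set _) := by
    intro b
    refine (le_trans (le_of_eq hgen.symm) ((closure_le _).2 ?_)) (mem_top b)
    rintro c (hc | hc)
    · exact mem_sup_right hc
    · simp only [Set.mem_iUnion] at hc
      obtain ⟨L', hL', hcL⟩ := hc
      exact mem_sup_left (huniq L' hL' ▸ hcL)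
  set K : Subgroup G := (L.comap (quo X)).map X.subtype with hKdef
  have hKX : K ≤ X := map_subtype_le _
  have hKmem : ∀ {g : G} (hg : g ∈ X), g ∈ K ↔ quo X ⟨g, hg⟩ ∈ L := fun {g} hg => by
    refine ⟨fun h => ?_, fun h => ⟨⟨g, hg⟩, h, rfl⟩⟩
    obtain ⟨x, hx, hxg⟩ := h
    rwa [show (⟨g, hg⟩ : ↥X) = x from Subtype.ext hxg.symm]
  refine ⟨K, hKX, ?_, fun x hx => ?_, fun a ha => ?_, ?_⟩
  · -- normality
    intro g hg
    refine mem_normalizer_iff.2 fun k => ⟨fun hk => ?_, fun hk => ?_⟩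
    · have hkX := hKX hk
      rw [hKmem hkX] at hk
      rw [hKmem (mul_mem (mul_mem hg hkX) (inv_mem hg))]
      exact hLn.conj_mem _ hk (quo X ⟨g, hg⟩)
    · have hgk := hKX hk
      have hkX : k ∈ X := by simpa [mul_assoc] using mul_mem (mul_mem (inv_mem hg) hgk) hg
      rw [hKmem hgk] at hk
      rw [hKmem hkX]
      have := hLn.conj_mem _ hk (quo X ⟨g, hg⟩)⁻¹
      rw [inv_inv, ← map_inv, ← map_mul, ← map_mul] at this
      convert this using 2
      exact Subtype.ext (by simp [mul_assoc])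
  · obtain ⟨l, hl, m, hm, he⟩ := mem_sup_of_normal_left.1 (hdec (quo X ⟨x, hx⟩))
    obtain ⟨m', hm', rfl⟩ := hM.toSetup.exists_normalizer_lift' hAX hm
    refine ⟨x * (m' : G)⁻¹, ?_, m', hm', m'.2, by group⟩
    rw [hKmem (mul_mem hx (inv_mem m'.2))]
    show quo X (⟨x, hx⟩ * m'⁻¹) ∈ L
    rwa [map_mul, map_inv, ← he, mul_inv_cancel_right]
  · rw [hKmem (hAX ha)]
    exact hUL (mem_img.2 ⟨⟨a, hAX ha⟩, ha, rfl⟩)
  · let f0 : ↥K →* ↥L := ((quo X).comp (inclusion hKX)).codRestrict L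
      fun k => (hKmem (hKX k.2)).1 k.2
    let f : ↥K →* ↥L ⧸ center ↥L := (QuotientGroup.mk' (center ↥L)).comp f0
    refine ⟨↥L ⧸ center ↥L, inferInstance, f, ?_, ?_, ?_⟩
    · intro c
      obtain ⟨l, rfl⟩ := QuotientGroup.mk'_surjective _ c
      obtain ⟨x, hx⟩ := QuotientGroup.mk'_surjective _ (l : ↥X ⧸ Cfsg.pPrimeCore 2 ↥X)
      have hxK : (x : G) ∈ K := (hKmem x.2).2 (by rw [show quo X ⟨(x : G), x.2⟩ = _ from hx]; exact l.2)
      exact ⟨⟨x, hxK⟩, congrArg (QuotientGroup.mk' (center ↥L)) (Subtype.ext hx)⟩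
    · have hker : ∀ k : ↥K, k ∈ f.ker ↔ quo X (inclusion hKX k) = 1 := fun k => by
        rw [MonoidHom.mem_ker]
        show QuotientGroup.mk' (center ↥L) (f0 k) = 1 ↔ _
        rw [QuotientGroup.mk'_apply, QuotientGroup.eq_one_iff, hZ, mem_bot]
        exact Subtype.ext_iff
      ext g
      constructor
      · rintro ⟨k, hk, rfl⟩
        exact ⟨inclusion hKX k, (QuotientGroup.eq_one_iff _).1 ((hker k).1 hk), rfl⟩
      · rintro ⟨x, hx, rfl⟩
        have hq : quo X x = 1 := (QuotientGroup.eq_one_iff _).2 hx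
        have hxK : (x : G) ∈ K := ⟨x, (show quo X x ∈ L by rw [hq]; exact one_mem L), rfl⟩
        exact ⟨⟨x, hxK⟩, (hker _).2 hq, rfl⟩
    · convert hsz using 1
      ext c
      constructor
      · rintro ⟨k, hk, rfl⟩
        exact ⟨f0 k, mem_img.2 ⟨inclusion hKX k, hk, rfl⟩, rfl⟩
      · rintro ⟨l, hl, rfl⟩
        obtain ⟨x, hxA, hxe⟩ := mem_img.1 hl
        have hxK : (x : G) ∈ K := ⟨x, (show quo X x ∈ L by rw [hxe]; exact l.2), rfl⟩
        exact ⟨⟨x, hxK⟩, hxA, congrArg (QuotientGroup.mk' (center ↥L)) (Subtype.ext hxe)⟩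

end Cfsg.Agent.ThreePrime36
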